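import Groth.Agent.Lead.CyclicCover.Root
import Mathlib.RingTheory.IntegralClosure.IsIntegralClosure.Basic
import Mathlib.RingTheory.Polynomial.ScaleRoots
import Mathlib.RingTheory.Localization.Away.Basic
import Mathlib.Data.Int.GCD

/-!
Normalisation of a cyclic cover branched along a regular divisor.
-/

set_option autoImplicit false

open Polynomial

universe u

namespace Groth.Agent.Lead.CyclicCover

theorem adjoinRoot_hom_ext {E S : Type u} [CommRing E] [CommRing S] {p : E[X]} (g₁ g₂ : AdjoinRoot p →+* S)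
    (h1 : ∀ e, g₁ (AdjoinRoot.of p e) = g₂ (AdjoinRoot.of p e))
    (h2 : g₁ (AdjoinRoot.root p) = g₂ (AdjoinRoot.root p)) : g₁ = g₂ :=
  Ideal.Quotient.ringHom_ext (Polynomial.ringHom_ext h1 h2)

theorem adjoinRoot_mem {E : Type u} [CommRing E] {p : E[X]} (S : Subring (AdjoinRoot p))
    (h1 : ∀ e, AdjoinRoot.of p e ∈ S) (h2 : AdjoinRoot.root p ∈ S) (x : AdjoinRoot p) : x ∈ S := by
  induction x using AdjoinRoot.induction_on with
  | ih g =>
    induction g using Polynomial.induction_on' with
    | add a b ha hb => rw [map_add]; exact S.add_mem ha hb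
    | monomial n c =>
      rw [← C_mul_X_pow_eq_monomial, map_mul, map_pow, AdjoinRoot.mk_C, AdjoinRoot.mk_X]
      exact S.mul_mem (h1 c) (S.pow_mem h2 n)

theorem mem_nonZeroDivisors_of_free {B M : Type u} [CommRing B] [IsDomain B] [CommRing M] [Algebra B M]
    [Module.Free B M] {f : B} (hf : f ≠ 0) : algebraMap B M f ∈ nonZeroDivisors M := by
  rw [mem_nonZeroDivisors_iff_right]
  intro x hx
  rw [mul_comm, ← Algebra.smul_def] at hx
  exact (smul_eq_zero.1 hx).resolve_left hf

variable {K : Type u} [CommRing K]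

/-- monomials in two units -/
def mon (s t : Kˣ) (i j : ℤ) : Kˣ := s ^ i * t ^ j

theorem mon_mul (s t : Kˣ) (i j i' j' : ℤ) : mon s t i j * mon s t i' j' = mon s t (i + i') (j + j') := by
  simp only [mon, zpow_add]
  exact mul_mul_mul_comm _ _ _ _

theorem mon_zpow (s t : Kˣ) (i j n : ℤ) : mon s t i j ^ n = mon s t (i * n) (j * n) := by
  simp only [mon, mul_zpow, zpow_mul]

theorem mon_pow (s t : Kˣ) (i j : ℤ) (n : ℕ) : mon s t i j ^ n = mon s t (i * n) (j * n) := by
  rw [← zpow_natCast, mon_zpow]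

theorem map_units_zpow {R S : Type u} [CommRing R] [CommRing S] (f : R →+* S) (x : Rˣ) (n : ℤ) :
    f ((x ^ n : Rˣ) : R) = ((Units.map f.toMonoidHom x ^ n : Sˣ) : S) := by
  rw [← map_zpow]
  rfl

theorem main {B : Type u} [CommRing B] [IsDomain B] [IsRegularRing B]
    (N : ℕ) (hN : 0 < N) (hNB : IsUnit (N : B)) (u : Bˣ) (α : ℕ) (f₁ : B) (hf₁ : f₁ ≠ 0)
    [IsRegularRing (B ⧸ Ideal.span ({f₁} : Set B))]
    (A : Subalgebra B (Localization.Away
      (algebraMap B (AdjoinRoot (X ^ N - C ((u : B) * f₁ ^ α) : B[X])) f₁)))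
    (hA : A = Algebra.adjoin B (Set.range fun i : Fin N =>
      algebraMap (AdjoinRoot (X ^ N - C ((u : B) * f₁ ^ α) : B[X])) (Localization.Away
        (algebraMap B (AdjoinRoot (X ^ N - C ((u : B) * f₁ ^ α) : B[X])) f₁))
        (AdjoinRoot.root (X ^ N - C ((u : B) * f₁ ^ α) : B[X]) ^ (i : ℕ)) *
      IsLocalization.Away.invSelf (S := Localization.Away
        (algebraMap B (AdjoinRoot (X ^ N - C ((u : B) * f₁ ^ α) : B[X])) f₁))
        (algebraMap B (AdjoinRoot (X ^ N - C ((u : B) * f₁ ^ α) : B[X])) f₁) ^ ((i : ℕ) * α / N))) :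
    Module.Finite B A ∧
      IsIntegralClosure A (AdjoinRoot (X ^ N - C ((u : B) * f₁ ^ α) : B[X]))
        (Localization.Away (algebraMap B (AdjoinRoot (X ^ N - C ((u : B) * f₁ ^ α) : B[X])) f₁)) ∧
      ∀ (Q : Ideal A) [Q.IsPrime], IsRegularLocalRing (Localization.AtPrime Q) := by
  let A' := AdjoinRoot (X ^ N - C ((u : B) * f₁ ^ α) : B[X])
  let K := Localization.Away (algebraMap B A' f₁)
  let t : A' := AdjoinRoot.root (X ^ N - C ((u : B) * f₁ ^ α) : B[X])
  -- numerics
  obtain ⟨d, N', α', hcop, hNd, hαd⟩ : ∃ d N' α' : ℕ, Nat.Coprime N' α' ∧ N = N' * d ∧ α = α' * d := by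
    obtain ⟨N', α', h, h1, h2⟩ := Nat.exists_coprime N α
    exact ⟨_, N', α', h, h1, h2⟩
  have hd0 : 0 < d := Nat.pos_of_mul_pos_left (hNd ▸ hN)
  have hN'0 : 0 < N' := Nat.pos_of_mul_pos_right (hNd ▸ hN)
  obtain ⟨a, b, hab⟩ : ∃ a b : ℤ, a * α' - b * N' = 1 := by
    refine ⟨Nat.gcdB N' α', -Nat.gcdA N' α', ?_⟩
    have := Nat.gcd_eq_gcd_ab N' α'
    rw [hcop.gcd_eq_one] at this
    push_cast at this
    linear_combination -this
  have hdB : IsUnit (d : B) := isUnit_of_mul_isUnit_right (x := (N' : B)) (by rw [← Nat.cast_mul, ← hNd]; exact hNB)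
  have hN'B : IsUnit (N' : B) := isUnit_of_mul_isUnit_left (y := (d : B)) (by rw [← Nat.cast_mul, ← hNd]; exact hNB)
  -- the model
  let E := AdjoinRoot (X ^ d - C (u : B))
  haveI : IsRegularRing E := isRegularRing_root d hd0 hdB _ u.isUnit
  haveI hEfree : Module.Free B E := (monic_X_pow_sub_C (u : B) hd0.ne').free_adjoinRoot
  haveI hEfin : Module.Finite B E := (monic_X_pow_sub_C (u : B) hd0.ne').finite_adjoinRoot
  have hW : (AdjoinRoot.root (X ^ d - C (u : B))) ^ d = algebraMap B E u := by
    have := AdjoinRoot.aeval_eq (f := X ^ d - C (u : B)) (X ^ d - C (u : B))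
    rwa [AdjoinRoot.mk_self, map_sub, map_pow, aeval_X, aeval_C, sub_eq_zero] at this
  obtain ⟨W, hWval⟩ : IsUnit (AdjoinRoot.root (X ^ d - C (u : B))) := by
    rw [← isUnit_pow_iff hd0.ne', hW]
    exact u.isUnit.map _
  let v : E := ((W ^ a : Eˣ) : E) * algebraMap B E f₁
  let R := AdjoinRoot (X ^ N' - C v)
  haveI hRfree' : Module.Free E R := (monic_X_pow_sub_C v hN'0.ne').free_adjoinRoot
  haveI hRfin' : Module.Finite E R := (monic_X_pow_sub_C v hN'0.ne').finite_adjoinRoot
  haveI hRfree : Module.Free B R := Module.Free.trans (R := B) (S := E)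
  haveI hRfin : Module.Finite B R := Module.Finite.trans E R
  haveI : IsNoetherianRing R := IsNoetherianRing.of_finite B R
  let P : R := AdjoinRoot.root (X ^ N' - C v)
  let fR : R := algebraMap B R f₁
  have hfR : fR ∈ nonZeroDivisors R := mem_nonZeroDivisors_of_free hf₁
  let W' : Rˣ := Units.map (algebraMap E R).toMonoidHom W
  have hP : P ^ N' = ((W' ^ a : Rˣ) : R) * fR := by
    have := AdjoinRoot.aeval_eq (f := X ^ N' - C v) (X ^ N' - C v)
    rw [AdjoinRoot.mk_self, map_sub, map_pow, aeval_X, aeval_C, sub_eq_zero] at this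
    refine this.trans ?_
    simp only [v, map_mul, fR, W']
    rw [← map_zpow, IsScalarTower.algebraMap_apply B E R]
    rfl
  have hPnzd : P ∈ nonZeroDivisors R := by
    rw [mem_nonZeroDivisors_iff_right]
    intro x hx
    refine (mem_nonZeroDivisors_iff_right.1 (mul_mem (Units.isUnit (W' ^ a)).mem_nonZeroDivisors hfR)) x ?_
    rw [← hP, ← mul_pow_sub_one hN'0.ne' P, ← mul_assoc, hx, zero_mul]
  haveI hRP : IsRegularRing (R ⧸ Ideal.span {P}) := by
    haveI : IsRegularRing (E ⧸ Ideal.span {v}) := by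
      haveI := isRegularRing_root_quotient d hd0 hdB (u : B) u.isUnit f₁
      exact IsRegularRing.of_ringEquiv (Ideal.quotEquivOfEq
        (Ideal.span_singleton_mul_left_unit (W ^ a).isUnit (algebraMap B E f₁)).symm)
    exact isRegularRing_quotient_root N' hN'0 v
  have hRreg : IsRegularRing R := by
    rw [isRegularRing_iff]
    intro Q hQ
    by_cases hPQ : P ∈ Q
    · exact regular_localization_of_quotient P hPnzd Q hPQ
    · refine regular_localization_adjoinRoot _ (monic_X_pow_sub_C v hN'0.ne') Q ?_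
      rw [aeval_derivative_X_pow_sub_C]
      intro h
      rcases hQ.mem_or_mem h with h1 | h1
      · have h2 := hN'B.map (algebraMap B R)
        rw [map_natCast] at h2
        exact hQ.ne_top (Ideal.eq_top_of_isUnit_mem _ h1 h2)
      · exact hPQ (hQ.mem_of_pow_mem _ h1)
  -- monomials in `K`
  obtain ⟨F, hF⟩ : IsUnit (algebraMap B K f₁) := by
    rw [IsScalarTower.algebraMap_apply B A' K]
    exact IsLocalization.Away.algebraMap_isUnit _
  have ht : t ^ N = algebraMap B A' ((u : B) * f₁ ^ α) := by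
    have := AdjoinRoot.aeval_eq (f := (X ^ N - C ((u : B) * f₁ ^ α) : B[X])) (X ^ N - C ((u : B) * f₁ ^ α))
    rwa [AdjoinRoot.mk_self, map_sub, map_pow, aeval_X, aeval_C, sub_eq_zero] at this
  have htK : algebraMap A' K t ^ N = algebraMap B K u * algebraMap B K f₁ ^ α := by
    rw [← map_pow, ht, ← IsScalarTower.algebraMap_apply B A' K, map_mul, map_pow]
  obtain ⟨T, hT⟩ : IsUnit (algebraMap A' K t) := by
    rw [← isUnit_pow_iff hN.ne', htK]
    exact (u.isUnit.map _).mul ((hF ▸ F.isUnit).pow _)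
  let U : Kˣ := Units.map (algebraMap B K).toMonoidHom u
  have hTN : mon T F (N : ℤ) 0 = U * mon T F 0 α := by
    ext
    simp only [mon, zpow_zero, mul_one, one_mul, zpow_natCast, Units.val_mul, Units.val_pow_eq_pow_val, hT, hF, htK]
    rfl
  let w : Kˣ := mon T F N' (-α')
  let π : Kˣ := mon T F a (-b)
  have hNd' : (N : ℤ) = N' * d := by exact_mod_cast hNd
  have hαd' : (α : ℤ) = α' * d := by exact_mod_cast hαd
  have hwd : w ^ d = U := by
    rw [mon_pow, ← hNd', neg_mul, ← hαd']
    have := congrArg (· * mon T F 0 (-(α : ℤ))) hTN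
    simp only [mon_mul, mul_assoc, add_zero, zero_add, add_neg_cancel] at this
    simpa [mon] using this
  have hπN : π ^ N' = w ^ a * F := by
    have h2 : mon T F 0 1 = F := by simp [mon]
    rw [mon_pow, mon_zpow]
    conv_rhs => arg 2; rw [← h2]
    rw [mon_mul]
    congr 1 <;> linarith [hab]
  let φE : E →ₐ[B] K := AdjoinRoot.liftAlgHom _ (Algebra.ofId B K) (w : K) (by
    rw [eval₂_sub, eval₂_X_pow, eval₂_C, sub_eq_zero, ← Units.val_pow_eq_pow_val, hwd]
    rfl)
  have hφW : Units.map φE.toRingHom.toMonoidHom W = w := by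
    ext
    show φE (W : E) = _
    rw [hWval]
    exact AdjoinRoot.liftAlgHom_root ..
  let φ : R →ₐ[B] K := AdjoinRoot.liftAlgHom _ φE (π : K) (by
    rw [eval₂_sub, eval₂_X_pow, eval₂_C, sub_eq_zero, ← Units.val_pow_eq_pow_val, hπN]
    show _ = φE (((W ^ a : Eˣ) : E) * algebraMap B E f₁)
    rw [map_mul φE, AlgHom.commutes, Units.val_mul, hF]
    congr 1
    rw [← hφW, ← map_zpow]
    rfl)
  have hφP : φ P = (π : K) := AdjoinRoot.liftAlgHom_root ..
  have hφof : ∀ e, φ (AdjoinRoot.of _ e) = φE e := fun e => AdjoinRoot.liftAlgHom_of ..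
  have hφW' : Units.map φ.toRingHom.toMonoidHom W' = w := by
    ext
    show φ (AdjoinRoot.of _ (W : E)) = _
    rw [hφof, ← hφW]
    rfl
  have hφW'z : ∀ n : ℤ, φ ((W' ^ n : Rˣ) : R) = ((w ^ n : Kˣ) : K) := fun n => by
    rw [← hφW']
    exact map_units_zpow φ.toRingHom W' n
  -- `A' → R`
  let tR : R := P ^ α' * ((W' ^ (-b) : Rˣ) : R)
  have hW'd : ((W' ^ (d : ℤ) : Rˣ) : R) = algebraMap B R u := by
    rw [zpow_natCast, Units.val_pow_eq_pow_val, IsScalarTower.algebraMap_apply B E R, ← hW, map_pow, ← hWval]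
    rfl
  have htR : tR ^ N = algebraMap B R ((u : B) * f₁ ^ α) := by
    simp only [tR, map_mul, map_pow]
    rw [mul_pow, ← pow_mul, show α' * N = N' * α by rw [hNd, hαd]; ring, pow_mul, hP, mul_pow, ← hW'd,
      ← Units.val_pow_eq_pow_val, ← Units.val_pow_eq_pow_val, mul_right_comm, ← Units.val_mul]
    congr 2
    rw [← zpow_natCast, ← zpow_natCast, ← zpow_mul, ← zpow_mul, ← zpow_add, hNd', hαd']
    congr 1
    linear_combination (d : ℤ) * hab
  let ψ₀ : A' →ₐ[B] R := AdjoinRoot.liftAlgHom _ (Algebra.ofId B R) tR (by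
    rw [eval₂_sub, eval₂_X_pow, eval₂_C, sub_eq_zero, htR]
    rfl)
  have hψt : ψ₀ t = tR := AdjoinRoot.liftAlgHom_root ..
  have hπα : π ^ (α' : ℤ) * w ^ (-b) = T := by
    rw [mon_zpow, mon_zpow, mon_mul, show a * α' + N' * -b = 1 by linear_combination hab,
      show -b * α' + -(α' : ℤ) * -b = 0 by ring]
    simp [mon]
  have hφψ : ∀ x, φ (ψ₀ x) = algebraMap A' K x := fun x => by
    refine RingHom.congr_fun (adjoinRoot_hom_ext (φ.toRingHom.comp ψ₀.toRingHom) (algebraMap A' K) (fun c => ?_) ?_) x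
    · show φ (ψ₀ (algebraMap B A' c)) = algebraMap A' K (algebraMap B A' c)
      rw [AlgHom.commutes, AlgHom.commutes, ← IsScalarTower.algebraMap_apply]
    · show φ (ψ₀ t) = algebraMap A' K t
      rw [hψt, ← hT, ← hπα, map_mul φ, map_pow φ, hφP, hφW'z, Units.val_mul, zpow_natCast, Units.val_pow_eq_pow_val]
  -- injectivity
  have hinj : Function.Injective φ := by
    let Rf := Localization.Away fR
    obtain ⟨G, hG⟩ : IsUnit (algebraMap R Rf fR) := IsLocalization.Away.algebraMap_isUnit _
    obtain ⟨p, hp⟩ : IsUnit (algebraMap R Rf P) := by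
      rw [← isUnit_pow_iff hN'0.ne', ← map_pow, hP, map_mul (algebraMap R Rf)]
      exact ((W' ^ a).isUnit.map _).mul (hG ▸ G.isUnit)
    let ω : Rfˣ := Units.map (algebraMap R Rf).toMonoidHom W'
    let ψ : K →+* Rf := IsLocalization.Away.lift (algebraMap B A' f₁) (g := (algebraMap R Rf).comp ψ₀.toRingHom)
      (by
        show IsUnit (algebraMap R Rf (ψ₀ (algebraMap B A' f₁)))
        rw [AlgHom.commutes]
        exact hG ▸ G.isUnit)
    have hψ : ∀ x, ψ (algebraMap A' K x) = algebraMap R Rf (ψ₀ x) := fun x => IsLocalization.Away.lift_eq _ _ x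
    let Ψ : Kˣ →* Rfˣ := Units.map ψ.toMonoidHom
    have hΨT : Ψ T = mon p ω α' (-b) := by
      ext
      show ψ (T : K) = _
      rw [hT, hψ, hψt, map_mul (algebraMap R Rf), map_pow (algebraMap R Rf), mon, Units.val_mul, zpow_natCast,
        Units.val_pow_eq_pow_val, hp, map_units_zpow (algebraMap R Rf) W']
    have hΨF : Ψ F = mon p ω N' (-a) := by
      ext
      show ψ (F : K) = _
      rw [hF, IsScalarTower.algebraMap_apply B A' K, hψ, AlgHom.commutes, mon, Units.val_mul, zpow_natCast,
        Units.val_pow_eq_pow_val, hp, ← map_pow (algebraMap R Rf), hP, map_mul (algebraMap R Rf),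
        map_units_zpow (algebraMap R Rf) W' a, mul_right_comm, ← Units.val_mul, ← zpow_add, add_neg_cancel,
        zpow_zero, Units.val_one, one_mul]
    have hΨ : ∀ i j : ℤ, Ψ (mon T F i j) = mon p ω (α' * i + N' * j) (-b * i + -a * j) := fun i j => by
      rw [mon, map_mul Ψ, map_zpow Ψ, map_zpow Ψ, hΨT, hΨF, mon_zpow, mon_zpow, mon_mul]
    have key : ψ.comp φ.toRingHom = algebraMap R Rf := by
      refine adjoinRoot_hom_ext _ _ (fun e => ?_) ?_
      · show ψ (φ (AdjoinRoot.of _ e)) = _
        rw [hφof]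
        refine RingHom.congr_fun (adjoinRoot_hom_ext (ψ.comp φE.toRingHom)
          ((algebraMap R Rf).comp (AdjoinRoot.of (X ^ N' - C v))) (fun c => ?_) ?_) e
        · show ψ (φE (algebraMap B E c)) = algebraMap R Rf (algebraMap E R (algebraMap B E c))
          rw [AlgHom.commutes, IsScalarTower.algebraMap_apply B A' K, hψ, AlgHom.commutes,
            ← IsScalarTower.algebraMap_apply B E R]
        · show ψ (φE _) = algebraMap R Rf (algebraMap E R _)
          rw [← hWval]
          have := congrArg Units.val (hΨ N' (-α'))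
          rw [show (α' : ℤ) * N' + N' * -α' = 0 by ring, show -b * (N' : ℤ) + -a * -α' = 1 by linear_combination hab] at this
          rw [show mon p ω 0 1 = ω by simp [mon]] at this
          refine Eq.trans ?_ this
          exact congrArg ψ (congrArg Units.val hφW)
      · show ψ (φ P) = algebraMap R Rf P
        rw [hφP]
        have := congrArg Units.val (hΨ a (-b))
        rw [show (α' : ℤ) * a + N' * -b = 1 by linear_combination hab, show -b * a + -a * -b = 0 by ring] at this
        rw [show mon p ω 1 0 = p by simp [mon]] at this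
        exact this.trans hp
    intro x y hxy
    refine IsLocalization.injective Rf (M := Submonoid.powers fR) (Submonoid.powers_le.2 hfR) ?_
    rw [← key]
    exact congrArg ψ hxy
  -- identification with `A`
  have hgen : ∀ i j : ℤ, 0 ≤ i * α + j * N → ((mon T F i j : Kˣ) : K) ∈ A := by
    intro i j hij
    have hNz : (0 : ℤ) < N := by exact_mod_cast hN
    obtain ⟨r, hr⟩ := Int.eq_ofNat_of_zero_le (Int.emod_nonneg i hNz.ne')
    have hrN : r < N := by
      have := Int.emod_lt_of_pos i hNz
      omega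
    obtain ⟨q, hi⟩ : ∃ q : ℤ, i = N * q + r := ⟨i / N, by rw [← hr]; exact (Int.mul_ediv_add_emod i N).symm⟩
    subst hi
    obtain ⟨m, hm⟩ : ∃ m : ℕ, (m : ℤ) = q * α + j + ((r * α / N : ℕ) : ℤ) := by
      refine ⟨(q * α + j + ((r * α / N : ℕ) : ℤ)).toNat, Int.toNat_of_nonneg ?_⟩
      push_cast
      have : -(q * α + j) ≤ (r * α : ℤ) / N := (Int.le_ediv_iff_mul_le hNz).2 (by linarith)
      linarith
    have he : mon T F (N * q + r) j = U ^ q * F ^ m * mon T F r (-((r * α / N : ℕ) : ℤ)) := by
      have h1 : U = mon T F N (-(α : ℤ)) := by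
        have := congrArg (· * mon T F 0 (-(α : ℤ))) hTN
        simp only [mon_mul, mul_assoc, add_zero, zero_add, add_neg_cancel] at this
        simpa [mon] using this.symm
      rw [h1, mon_zpow, show F ^ m = mon T F 0 m by simp [mon], mon_mul, mon_mul]
      congr 1 <;> linarith [hm]
    rw [he, Units.val_mul]
    refine A.mul_mem ?_ ?_
    · rw [Units.val_mul, Units.val_pow_eq_pow_val, hF, ← map_zpow]
      exact A.mul_mem (A.algebraMap_mem _) (A.pow_mem (A.algebraMap_mem _) m)
    · rw [hA]
      refine Algebra.subset_adjoin ⟨⟨r, hrN⟩, ?_⟩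
      show _ = _
      simp only [mon, zpow_natCast, zpow_neg, Units.val_mul, Units.val_pow_eq_pow_val, map_pow, hT]
      congr 1
      refine Units.eq_inv_of_mul_eq_one_left ?_
      rw [Units.val_pow_eq_pow_val, hF, ← mul_pow, IsScalarTower.algebraMap_apply B A' K,
        IsLocalization.Away.mul_invSelf, one_pow]
  have hrange : A = φ.range := by
    refine le_antisymm ?_ ?_
    · rw [hA, Algebra.adjoin_le_iff]
      rintro _ ⟨i, rfl⟩
      let k := (i : ℕ) * α / N
      obtain ⟨m, hm⟩ : ∃ m : ℕ, (m : ℤ) = (i : ℕ) * α' - k * N' := by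
        refine ⟨((i : ℕ) * α' - k * N' : ℤ).toNat, Int.toNat_of_nonneg ?_⟩
        have h1 : (k : ℤ) * (N' * d) ≤ (i : ℕ) * (α' * d) := by
          rw [← hNd', ← hαd']
          exact_mod_cast Nat.div_mul_le_self _ _
        have hd' : (0 : ℤ) < d := by exact_mod_cast hd0
        nlinarith
      refine ⟨P ^ m * ((W' ^ (-b * (i : ℕ) + a * k) : Rˣ) : R), ?_⟩
      show φ _ = _
      rw [map_mul φ, map_pow φ, hφP, hφW'z, ← Units.val_pow_eq_pow_val, ← Units.val_mul, mon_pow, mon_zpow, mon_mul]
      have e1 : a * (m : ℤ) + N' * (-b * (i : ℕ) + a * k) = (i : ℕ) := by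
        rw [hm]; linear_combination ((i : ℕ) : ℤ) * hab
      have e2 : -b * (m : ℤ) + -α' * (-b * (i : ℕ) + a * k) = -(k : ℤ) := by
        rw [hm]; linear_combination -(k : ℤ) * hab
      rw [e1, e2]
      simp only [mon, zpow_natCast, zpow_neg, Units.val_mul, Units.val_pow_eq_pow_val, map_pow, hT]
      congr 1
      refine (Units.eq_inv_of_mul_eq_one_left ?_).symm
      rw [Units.val_pow_eq_pow_val, hF, ← mul_pow, IsScalarTower.algebraMap_apply B A' K,
        IsLocalization.Away.mul_invSelf, one_pow]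
    · rintro _ ⟨x, rfl⟩
      refine adjoinRoot_mem (A.toSubring.comap φ.toRingHom) (fun e => ?_) ?_ x
      · show φ (AdjoinRoot.of _ e) ∈ A
        rw [hφof]
        refine adjoinRoot_mem (A.toSubring.comap φE.toRingHom) (fun c => ?_) ?_ e
        · show φE (algebraMap B E c) ∈ A
          rw [AlgHom.commutes]
          exact A.algebraMap_mem c
        · show φE _ ∈ A
          rw [← hWval, show φE (W : E) = (w : K) from congrArg Units.val hφW]
          exact hgen _ _ (by rw [hαd', hNd']; linarith)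
      · show φ P ∈ A
        rw [hφP]
        refine hgen _ _ ?_
        rw [hαd', hNd', show a * (α' * d) + -b * (N' * d) = (d : ℤ) by linear_combination (d : ℤ) * hab]
        exact Int.natCast_nonneg d
  subst hrange
  let e : R ≃ₐ[B] φ.range := AlgEquiv.ofInjective φ hinj
  haveI hfin : Module.Finite B φ.range := Module.Finite.equiv e.toLinearEquiv
  refine ⟨hfin, ?_, ?_⟩
  · refine { algebraMap_injective := Subtype.val_injective, isIntegral_iff := fun {x} => ⟨fun hx => ?_, ?_⟩ }
    · have hred : IsReduced (R ⧸ Ideal.span {P}) := isReduced_of_isRegularRing _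
      have hx' : φ.toRingHom.IsIntegralElem x := by
        obtain ⟨q, hq, hqx⟩ := hx
        refine ⟨q.map ψ₀.toRingHom, hq.map _, ?_⟩
        rw [eval₂_map]
        convert hqx using 2
        exact RingHom.ext hφψ
      have step : ∀ (z : K), φ.toRingHom.IsIntegralElem z → z * (π : K) ∈ φ.range → z ∈ φ.range := by
        rintro z ⟨q, hq, hqz⟩ ⟨y, hy⟩
        change φ y = z * π at hy
        have h0 : eval₂ φ.toRingHom (φ y) (q.scaleRoots P) = 0 := by
          rw [hy, mul_comm z (π : K), ← hφP]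
          show eval₂ φ.toRingHom (φ.toRingHom P * z) _ = 0
          rw [scaleRoots_eval₂_mul, hqz, mul_zero]
        have h1 : (q.scaleRoots P).eval y = 0 := by
          refine hinj ?_
          rw [map_zero φ, ← h0]
          exact (eval₂_at_apply φ.toRingHom y).symm
        have h2 : (Ideal.Quotient.mk (Ideal.span {P}) y) ^ q.natDegree = 0 := by
          have := congrArg (Ideal.Quotient.mk (Ideal.span {P})) h1
          rw [eval_eq_sum_range, natDegree_scaleRoots, map_sum, map_zero, Finset.sum_range_succ,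
            Finset.sum_eq_zero (fun i hi => ?_), zero_add, coeff_scaleRoots_natDegree, hq.leadingCoeff, one_mul,
            map_pow] at this
          · exact this
          · rw [Ideal.Quotient.eq_zero_iff_mem, coeff_scaleRoots]
            refine Ideal.mul_mem_right _ _ (Ideal.mul_mem_left _ _ (Ideal.pow_mem_of_mem _
              (Ideal.mem_span_singleton_self P) _ ?_))
            have := Finset.mem_range.1 hi
            omega
        have h3 := hred.eq_zero _ ⟨_, h2⟩
        rw [Ideal.Quotient.eq_zero_iff_mem, Ideal.mem_span_singleton'] at h3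
        obtain ⟨c, rfl⟩ := h3
        rw [map_mul φ, hφP] at hy
        exact ⟨c, π.isUnit.mul_right_cancel hy⟩
      have down : ∀ (n : ℕ) (z : K), φ.toRingHom.IsIntegralElem z → z * (π : K) ^ n ∈ φ.range → z ∈ φ.range := by
        intro n
        induction n with
        | zero => intro z _ h; simpa using h
        | succ n ih =>
          intro z hz h
          refine step z hz (ih _ ?_ (by rwa [mul_assoc, ← pow_succ']))
          rw [← hφP]
          exact hz.mul _ (φ.toRingHom.isIntegralElem_map)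
      obtain ⟨n, a', hn⟩ := IsLocalization.Away.surj (algebraMap B A' f₁) x
      refine ⟨⟨x, down (N' * n) x hx' ?_⟩, rfl⟩
      refine ⟨ψ₀ a' * ((W' ^ a : Rˣ) : R) ^ n, ?_⟩
      show φ _ = _
      rw [map_mul φ, map_pow φ, hφψ, hφW'z, ← hn, ← IsScalarTower.algebraMap_apply, ← hF, pow_mul,
        ← Units.val_pow_eq_pow_val π, hπN, Units.val_mul, mul_pow, mul_assoc, mul_comm ((F : K) ^ n)]
    · rintro ⟨y, rfl⟩
      exact IsIntegral.tower_top ((IsIntegral.of_finite B y).map φ.range.val)
  · haveI : IsRegularRing φ.range := IsRegularRing.of_ringEquiv e.toRingEquiv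
    intro Q _
    exact IsRegularRing.isRegularLocalRing_localization Q

end Groth.Agent.Lead.CyclicCover
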