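import Groth.Agent.EtaleLocal.Basic
import Groth.Agent.RegularLocal.Basic
import Mathlib.RingTheory.Unramified.LocalRing
import Mathlib.RingTheory.Flat.Localization
import Mathlib.RingTheory.Localization.Ideal
import Mathlib.RingTheory.RegularLocalRing.Defs

/-!
Regularity goes up along étale algebras and along nonzerodivisors with regular quotient.
-/

set_option autoImplicit false

open IsLocalRing

universe u

namespace Groth.Agent.Lead.CyclicCover

/-- regularity of the local ring of an étale algebra -/
theorem regular_localization_of_etale {A B : Type u} [CommRing A] [CommRing B] [Algebra A B]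
    [IsRegularRing A] [Algebra.Etale A B] (Q : Ideal B) [Q.IsPrime] :
    IsRegularLocalRing (Localization.AtPrime Q) := by
  haveI : Algebra.FiniteType A B := inferInstance
  haveI : IsNoetherianRing B := Algebra.FiniteType.isNoetherianRing A B
  let p := Q.under A
  haveI : Q.LiesOver p := ⟨rfl⟩
  letI := Localization.AtPrime.algebraOfLiesOver p Q
  haveI : Algebra.IsUnramifiedAt A Q := inferInstance
  haveI : IsRegularLocalRing (Localization.AtPrime p) := IsRegularRing.isRegularLocalRing_localization p
  have h := ((Algebra.isUnramifiedAt_iff_map_eq A p Q).1 inferInstance).2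
  refine (Groth.Agent.EtaleLocal.Basic.isRegularLocalRing_iff (R := Localization.AtPrime p) ?_).1 inferInstance
  rw [← Localization.AtPrime.map_eq_maximalIdeal, Ideal.map_map, ← IsScalarTower.algebraMap_eq]
  exact h

theorem isRegularRing_of_etale (A B : Type u) [CommRing A] [CommRing B] [Algebra A B]
    [IsRegularRing A] [Algebra.Etale A B] : IsRegularRing B := by
  haveI : Algebra.FiniteType A B := inferInstance
  haveI : IsNoetherianRing B := Algebra.FiniteType.isNoetherianRing A B
  rw [isRegularRing_iff]
  intro Q _
  exact regular_localization_of_etale (A := A) Q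

/-- regularity at a prime containing a nonzerodivisor with regular quotient -/
theorem regular_localization_of_quotient {R : Type u} [CommRing R] [IsNoetherianRing R] (x : R)
    (hx : x ∈ nonZeroDivisors R) [IsRegularRing (R ⧸ Ideal.span {x})] (Q : Ideal R) [Q.IsPrime] (hxQ : x ∈ Q) :
    IsRegularLocalRing (Localization.AtPrime Q) := by
  let I : Ideal R := Ideal.span {x}
  have hIQ : I ≤ Q := (Ideal.span_singleton_le_iff_mem _).2 hxQ
  let L := Localization.AtPrime Q
  let J : Ideal L := I.map (algebraMap R L)
  letI : Algebra (R ⧸ I) (L ⧸ J) := (Ideal.quotientMap J (algebraMap R L) Ideal.le_comap_map).toAlgebra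
  let Qb : Ideal (R ⧸ I) := Q.map (Ideal.Quotient.mk I)
  haveI : Qb.IsPrime := Ideal.map_isPrime_of_surjective Ideal.Quotient.mk_surjective (by rwa [Ideal.mk_ker])
  have hr : ∀ r, Ideal.Quotient.mk I r ∈ Qb ↔ r ∈ Q := fun r => by
    rw [← Ideal.mem_comap, Ideal.comap_map_of_surjective' _ Ideal.Quotient.mk_surjective, Ideal.mk_ker,
      sup_eq_left.2 hIQ]
  have hM : Q.primeCompl.map (Ideal.Quotient.mk I) = Qb.primeCompl := by
    ext y
    obtain ⟨r, rfl⟩ := Ideal.Quotient.mk_surjective y
    constructor
    · rintro ⟨s, hs, hsr⟩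
      rw [← hsr]
      exact fun h => hs ((hr s).1 h)
    · exact fun h => ⟨r, fun h' => h ((hr r).2 h'), rfl⟩
  haveI : IsLocalization Qb.primeCompl (L ⧸ J) := by
    rw [← hM]
    refine IsLocalization.of_surjective Q.primeCompl L _ Ideal.Quotient.mk_surjective _
      Ideal.Quotient.mk_surjective ?_ ?_
    · rfl
    · simp only [Ideal.mk_ker]
      exact le_refl _
  haveI : IsRegularLocalRing (Localization.AtPrime Qb) := IsRegularRing.isRegularLocalRing_localization Qb
  haveI : IsRegularLocalRing (L ⧸ J) :=
    IsRegularLocalRing.of_ringEquiv (IsLocalization.algEquiv Qb.primeCompl (Localization.AtPrime Qb) (L ⧸ J)).toRingEquiv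
  have hJ : J = Ideal.span {algebraMap R L x} := by
    simp only [J, I, Ideal.map_span, Set.image_singleton]
  haveI : IsRegularLocalRing (L ⧸ Ideal.span {algebraMap R L x}) :=
    IsRegularLocalRing.of_ringEquiv (Ideal.quotEquivOfEq hJ)
  refine Groth.Agent.RegularLocal.Basic.of_quotient_singleton (x := algebraMap R L x)
    ((IsLocalization.AtPrime.to_map_mem_maximal_iff L Q x).2 hxQ)
    (IsLocalization.map_nonZeroDivisors_le Q.primeCompl L ⟨x, hx, rfl⟩)

end Groth.Agent.Lead.CyclicCover
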