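import Groth.Agent.Lead.CyclicCover.Regular
import Groth.Agent.RegularLocal.Basic
import Mathlib.RingTheory.Etale.StandardEtale
import Mathlib.RingTheory.Localization.LocalizationLocalization
import Mathlib.RingTheory.LocalProperties.Reduced

/-!
Adjoining roots of order invertible in the ring, and regularity.
-/

set_option autoImplicit false

open Polynomial

universe u

namespace Groth.Agent.Lead.CyclicCover

theorem isReduced_of_isRegularRing (A : Type u) [CommRing A] [IsRegularRing A] : IsReduced A :=
  isReduced_ofLocalizationMaximal A fun J hJ => by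
    haveI := hJ.isPrime
    haveI : IsRegularLocalRing (Localization.AtPrime J) := IsRegularRing.isRegularLocalRing_localization J
    haveI := Groth.Agent.RegularLocal.Basic.isDomain (R := Localization.AtPrime J)
    infer_instance

/-- regularity where the derivative is invertible -/
theorem regular_localization_adjoinRoot {E : Type u} [CommRing E] [IsRegularRing E] (p : E[X]) (hp : p.Monic)
    (Q : Ideal (AdjoinRoot p)) [Q.IsPrime] (hQ : aeval (AdjoinRoot.root p) p.derivative ∉ Q) :
    IsRegularLocalRing (Localization.AtPrime Q) := by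
  let P : StandardEtalePair E := ⟨p, hp, p.derivative, 1, 0, 1, by simp⟩
  let g := AdjoinRoot.mk P.f P.g
  haveI : Algebra.Etale E (Localization.Away g) := Algebra.Etale.of_equiv P.equivAwayAdjoinRoot
  have hg : g ∉ Q := by rwa [AdjoinRoot.aeval_eq] at hQ
  have hdisj : Disjoint (Submonoid.powers g : Set (AdjoinRoot p)) (Q : Set (AdjoinRoot p)) :=
    Set.disjoint_left.2 fun y hy hyQ => by
      obtain ⟨n, rfl⟩ := hy
      exact hg (Ideal.IsPrime.mem_of_pow_mem inferInstance _ hyQ)
  let Q' : Ideal (Localization.Away g) := Q.map (algebraMap (AdjoinRoot p) (Localization.Away g))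
  haveI : Q'.IsPrime := IsLocalization.isPrime_of_isPrime_disjoint (Submonoid.powers g) _ Q inferInstance hdisj
  have hc : Q'.comap (algebraMap (AdjoinRoot p) (Localization.Away g)) = Q :=
    IsLocalization.under_map_of_isPrime_disjoint (Submonoid.powers g) _ inferInstance hdisj
  haveI : IsRegularLocalRing (Localization.AtPrime Q') := regular_localization_of_etale (A := E) Q'
  haveI : IsRegularLocalRing (Localization.AtPrime (Q'.comap (algebraMap (AdjoinRoot p) (Localization.Away g)))) :=
    IsRegularLocalRing.of_ringEquiv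
      (IsLocalization.localizationLocalizationAtPrimeIsoLocalization (Submonoid.powers g) Q').toRingEquiv.symm
  have key : ∀ (J : Ideal (AdjoinRoot p)) [J.IsPrime], J = Q → IsRegularLocalRing (Localization.AtPrime J) →
      IsRegularLocalRing (Localization.AtPrime Q) := by
    intro J _ h
    subst h
    exact id
  exact key _ hc inferInstance

theorem aeval_derivative_X_pow_sub_C {E S : Type u} [CommRing E] [CommRing S] [Algebra E S] (n : ℕ) (v : E) (x : S) :
    aeval x (X ^ n - C v).derivative = (n : S) * x ^ (n - 1) := by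
  simp [derivative_X_pow]

/-- adjoining a root of a unit -/
theorem isRegularRing_root {E : Type u} [CommRing E] [IsRegularRing E] (n : ℕ) (hn0 : 0 < n)
    (hn : IsUnit (n : E)) (v : E) (hv : IsUnit v) : IsRegularRing (AdjoinRoot (X ^ n - C v)) := by
  haveI : Module.Finite E (AdjoinRoot (X ^ n - C v)) := (monic_X_pow_sub_C v hn0.ne').finite_adjoinRoot
  haveI : IsNoetherianRing (AdjoinRoot (X ^ n - C v)) := IsNoetherianRing.of_finite E _
  rw [isRegularRing_iff]
  intro Q hQ
  refine regular_localization_adjoinRoot _ (monic_X_pow_sub_C v hn0.ne') Q ?_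
  rw [aeval_derivative_X_pow_sub_C]
  intro h
  have hr : (AdjoinRoot.root (X ^ n - C v)) ^ n = algebraMap E _ v := by
    have := AdjoinRoot.aeval_eq (f := X ^ n - C v) (X ^ n - C v)
    rwa [AdjoinRoot.mk_self, map_sub, map_pow, aeval_X, aeval_C, sub_eq_zero] at this
  rcases hQ.mem_or_mem h with h1 | h1
  · have h2 := hn.map (algebraMap E (AdjoinRoot (X ^ n - C v)))
    rw [map_natCast] at h2
    exact hQ.ne_top (Ideal.eq_top_of_isUnit_mem _ h1 h2)
  · have h2 : IsUnit (AdjoinRoot.root (X ^ n - C v)) := by
      rw [← isUnit_pow_iff hn0.ne', hr]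
      exact hv.map _
    exact hQ.ne_top (Ideal.eq_top_of_isUnit_mem _ h1 (h2.pow _))

/-- reduction of `AdjoinRoot (X ^ n - v)` modulo the root -/
theorem isRegularRing_quotient_root {E : Type u} [CommRing E] (n : ℕ) (hn0 : 0 < n) (v : E)
    [IsRegularRing (E ⧸ Ideal.span {v})] :
    IsRegularRing (AdjoinRoot (X ^ n - C v) ⧸ Ideal.span {AdjoinRoot.root (X ^ n - C v)}) := by
  let p : E[X] := X ^ n - C v
  let χ : AdjoinRoot p →+* E ⧸ Ideal.span {v} := AdjoinRoot.lift (Ideal.Quotient.mk _) 0 (by
    simp [p, eval₂_sub, zero_pow hn0.ne'])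
  have hχ : Function.Surjective χ := fun y => by
    obtain ⟨e, rfl⟩ := Ideal.Quotient.mk_surjective y
    exact ⟨AdjoinRoot.of p e, AdjoinRoot.lift_of _⟩
  have hker : RingHom.ker χ = Ideal.span {AdjoinRoot.root p} := by
    refine le_antisymm (fun x hx => ?_) ?_
    · induction x using AdjoinRoot.induction_on with
      | ih g =>
      rw [RingHom.mem_ker] at hx
      simp only [χ, AdjoinRoot.lift_mk, eval₂_at_zero, Ideal.Quotient.eq_zero_iff_mem,
        Ideal.mem_span_singleton'] at hx
      obtain ⟨c, hc⟩ := hx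
      rw [Ideal.mem_span_singleton]
      have h1 : AdjoinRoot.root p ∣ AdjoinRoot.of p v := by
        refine ⟨AdjoinRoot.root p ^ (n - 1), ?_⟩
        have := AdjoinRoot.aeval_eq (f := p) p
        rw [AdjoinRoot.mk_self, map_sub, map_pow, aeval_X, aeval_C, sub_eq_zero] at this
        rw [← pow_succ', Nat.sub_add_cancel hn0, this]
        rfl
      have h2 : g = X * g.divX + C (g.coeff 0) := (X_mul_divX_add g).symm
      rw [h2, map_add, map_mul, AdjoinRoot.mk_X, AdjoinRoot.mk_C, ← hc, map_mul]
      exact dvd_add (Dvd.intro _ rfl) (h1.mul_left _)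
    · rw [Ideal.span_singleton_le_iff_mem, RingHom.mem_ker]
      exact AdjoinRoot.lift_root _
  exact IsRegularRing.of_ringEquiv
    (((Ideal.quotEquivOfEq hker.symm).trans (RingHom.quotientKerEquivOfSurjective hχ))).symm

/-- reduction modulo an element of the base -/
theorem isRegularRing_root_quotient {E : Type u} [CommRing E] (d : ℕ) (hd0 : 0 < d)
    (hd : IsUnit (d : E)) (u : E) (hu : IsUnit u) (f : E) [IsRegularRing (E ⧸ Ideal.span {f})] :
    IsRegularRing (AdjoinRoot (X ^ d - C u) ⧸ Ideal.span {algebraMap E (AdjoinRoot (X ^ d - C u)) f}) := by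
  let I : Ideal E := Ideal.span {f}
  haveI : IsRegularRing (AdjoinRoot (X ^ d - C (Ideal.Quotient.mk I u))) :=
    isRegularRing_root d hd0 (by simpa using hd.map (Ideal.Quotient.mk I)) _ (hu.map _)
  have e := AdjoinRoot.quotEquivQuotMap (X ^ d - C u) I
  have hI : I.map (algebraMap E (AdjoinRoot (X ^ d - C u))) =
      Ideal.span {algebraMap E (AdjoinRoot (X ^ d - C u)) f} := by
    simp [I, Ideal.map_span]
  have hp : (X ^ d - C u).map (Ideal.Quotient.mk I) = X ^ d - C (Ideal.Quotient.mk I u) := by simp
  haveI : IsRegularRing ((E ⧸ I)[X] ⧸ Ideal.span {(X ^ d - C u).map (Ideal.Quotient.mk I)}) := by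
    rw [hp]; assumption
  exact @IsRegularRing.of_ringEquiv ((E ⧸ I)[X] ⧸ Ideal.span {(X ^ d - C u).map (Ideal.Quotient.mk I)}) _ _ _
    (e.toRingEquiv.symm.trans (Ideal.quotEquivOfEq hI)) (by assumption)

end Groth.Agent.Lead.CyclicCover
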